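import Groth.Agent.ClopenFFLib.Normal
import Groth.Agent.CycPushLib.FiniteLen
import Groth.Agent.BlowUpLib.Cartier
import Groth.Prelude.Def_FGA

/-!
A prime divisor with trivial function field extension over a normal divisor of the base of a finite
étale cover is a connected component of its preimage.
-/

set_option autoImplicit false
set_option linter.style.haveILetI false
set_option backward.isDefEq.respectTransparency false
set_option maxHeartbeats 400000

noncomputable section

universe u

open CategoryTheory CategoryTheory.Limits AlgebraicGeometry TopologicalSpace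

namespace SplitDivLib

section cover

variable {P E D : Scheme.{u}} [IsIntegral D] [IsIntegral E] (p : P ⟶ D) [IsFinite p] [Etale p]
  (i : E ⟶ P) [IsClosedImmersion i] [Surjective (i ≫ p)]

include p i

/-- An integral closed subscheme of a finite étale cover dominating the normal base is open. -/
theorem isOpenImmersion_of_dominant (hD : Pi1.IsNormalScheme D) : IsOpenImmersion i := by
  have hirr : IsIrreducible (Set.range i) := by
    rw [← Set.image_univ]
    exact (IrreducibleSpace.isIrreducible_univ E).image _ i.continuous.continuousOn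
  obtain ⟨Z, hZ, hiZ⟩ := exists_mem_irreducibleComponents_subset_of_isIrreducible _ hirr
  obtain ⟨ξ, hξ, hpξ⟩ := ClopenFFLib.exists_generic p hZ
  have hge : p (i (genericPoint E)) = genericPoint D := by
    obtain ⟨e, he⟩ := (i ≫ p).surjective (genericPoint D)
    refine Specializes.antisymm ?_ ((genericPoint_spec D).specializes trivial) |>.eq
    rw [← he]
    exact ((genericPoint_spec E).specializes trivial).map (i ≫ p).continuous
  have hs : ξ ⤳ i (genericPoint E) := by
    refine IsGenericPoint.specializes (isGenericPoint_def.2 hξ) ?_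
    exact hiZ ⟨_, rfl⟩
  have heq : i (genericPoint E) = ξ := by
    by_contra hne
    obtain ⟨V, hV, hyV, -⟩ := exists_isAffineOpen_mem_and_subset (x := genericPoint D) (U := ⊤) trivial
    have h1 : _root_.IsDiscrete (p ⁻¹' {genericPoint D}) := p.isDiscrete_preimage_singleton _
    exact hne (h1.eq_of_specializes hs hpξ hge).symm
  have hrange : Set.range i = Z := by
    refine hiZ.antisymm ?_
    rw [← hξ, ← heq]
    exact closure_minimal (Set.singleton_subset_iff.2 ⟨_, rfl⟩) i.isClosedEmbedding.isClosed_range
  have hopen : IsOpen (Set.range i) := hrange ▸ (ClopenFFLib.isClopen_component p hD hZ).isOpen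
  haveI : IsReduced P := by
    haveI : ∀ x : P, _root_.IsReduced (P.presheaf.stalk x) := fun x =>
      haveI := (ClopenFFLib.normal_of_etale p hD x).1
      isReduced_of_noZeroDivisors
    exact isReduced_of_isReduced_stalk P
  let O : P.Opens := ⟨Set.range i, hopen⟩
  let i' : E ⟶ O := IsOpenImmersion.lift O.ι i (by rw [Scheme.Opens.range_ι]; exact subset_rfl)
  have hi' : i' ≫ O.ι = i := IsOpenImmersion.lift_fac _ _ _
  haveI : IsClosedImmersion (i' ≫ O.ι) := hi' ▸ inferInstance
  haveI : IsClosedImmersion i' := IsClosedImmersion.of_comp i' O.ι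
  haveI : Surjective i' := ⟨fun z => by
    obtain ⟨e, he⟩ := z.2
    exact ⟨e, O.ι.isOpenEmbedding.injective (by rw [← Scheme.Hom.comp_apply, hi', he]; rfl)⟩⟩
  haveI : IsIso i' := isIso_of_isClosedImmersion_of_surjective i'
  rw [← hi']
  infer_instance

/-- Degree one at the generic point forces an isomorphism onto the normal base. -/
theorem isIso_comp (hD : Pi1.IsNormalScheme D) [IsLocallyNoetherian D]
    (hdeg : (i ≫ p).residueDegree (genericPoint E) = 1) : IsIso (i ≫ p) := by
  haveI := isOpenImmersion_of_dominant p i hD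
  haveI : Etale (i ≫ p) := inferInstance
  haveI : IsFinite (i ≫ p) := inferInstance
  haveI : LocallyOfFinitePresentation (i ≫ p) := inferInstance
  refine (Scheme.Hom.isIso_iff_finrank_eq (i ≫ p)).2 (funext fun d => ?_)
  rw [(Scheme.Hom.isLocallyConstant_finrank (i ≫ p)).apply_eq_of_preconnectedSpace d (genericPoint D), Pi.one_apply]
  obtain ⟨-, -, hsum⟩ := CycPushLib.finrank_eq_sum (i ≫ p) (genericPoint D)
  have hgen : (i ≫ p) (genericPoint E) = genericPoint D := by
    obtain ⟨e, he⟩ := (i ≫ p).surjective (genericPoint D)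
    refine Specializes.antisymm ?_ ((genericPoint_spec D).specializes trivial) |>.eq
    rw [← he]
    exact ((genericPoint_spec E).specializes trivial).map (i ≫ p).continuous
  have hfib : (i ≫ p) ⁻¹' {genericPoint D} = {genericPoint E} := by
    ext e
    refine ⟨fun he => ?_, fun he => he ▸ hgen⟩
    exact (((i ≫ p).isDiscrete_preimage_singleton _).eq_of_specializes
      ((genericPoint_spec E).specializes trivial) hgen he).symm
  rw [hfib, finsum_mem_singleton, hdeg] at hsum
  have hbot : CycLimLib.fibIdeal (i ≫ p) (genericPoint E) = ⊥ := by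
    have h := CycLimLib.fibIdeal_le (i ≫ p) (genericPoint E)
    haveI : IsField E.functionField := Field.toIsField _
    rwa [IsLocalRing.isField_iff_maximalIdeal_eq.1 (Field.toIsField E.functionField), le_bot_iff] at h
  have hlen : Module.length (E.presheaf.stalk (genericPoint E))
      (E.presheaf.stalk (genericPoint E) ⧸ CycLimLib.fibIdeal (i ≫ p) (genericPoint E)) = 1 := by
    rw [hbot, (Submodule.quotEquivOfEqBot ⊥ rfl).length_eq, Module.length_eq_one_iff]
    exact isSimpleModule_self_iff_isUnit.2 ⟨inferInstance, fun x hx => (Ne.isUnit (hx : (x : E.functionField) ≠ 0))⟩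
  rw [hlen] at hsum
  exact_mod_cast hsum

end cover

theorem isEffCartier_top (Y : Scheme.{u}) : BlowUp.IsEffCartierIdeal (⊤ : Y.IdealSheafData) := fun y => by
  obtain ⟨U, hU, hyU, -⟩ := exists_isAffineOpen_mem_and_subset (x := y) (U := ⊤) trivial
  exact ⟨⟨U, hU⟩, hyU, 1, one_mem _, by rw [Ideal.span_singleton_one]; rfl⟩

/-- An ideal sheaf which is an open piece of an effective Cartier one is effective Cartier. -/
theorem isEffCartier_of_piece {Y : Scheme.{u}} (C K : Y.IdealSheafData) (hC : BlowUp.IsEffCartierIdeal C)
    (i : K.subscheme ⟶ C.subscheme) [IsOpenImmersion i] (hi : i ≫ C.subschemeι = K.subschemeι) :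
    BlowUp.IsEffCartierIdeal K := by
  refine BlowUpLib.isEffCartier_of_cover fun y => ?_
  by_cases hy : y ∈ Set.range K.subschemeι
  · obtain ⟨W, hW, hWr⟩ := C.subschemeι.isClosedEmbedding.isInducing.isOpen_iff.1 i.isOpenEmbedding.isOpen_range
    let O : Y.Opens := ⟨W, hW⟩
    have hyW : y ∈ O := by
      obtain ⟨e, rfl⟩ := hy
      rw [← hi, Scheme.Hom.comp_apply]
      exact hWr.ge ⟨e, rfl⟩
    refine ⟨O, O.ι, inferInstance, ⟨⟨y, hyW⟩, rfl⟩, ?_⟩
    let m : pullback O.ι K.subschemeι ⟶ pullback O.ι C.subschemeι :=
      pullback.map _ _ _ _ (𝟙 _) i (𝟙 _) (by simp) (by simp [hi])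
    have hm : IsPullback m (pullback.snd O.ι K.subschemeι) (pullback.snd O.ι C.subschemeι) i := by
      refine IsPullback.of_right ?_ (pullback.lift_snd _ _ _) (IsPullback.of_hasPullback O.ι C.subschemeι)
      rw [hi, pullback.lift_fst, Category.comp_id]
      exact IsPullback.of_hasPullback O.ι K.subschemeι
    haveI : IsOpenImmersion m := MorphismProperty.of_isPullback hm.flip ‹IsOpenImmersion i›
    haveI : Surjective m := ⟨fun z => by
      have hz : pullback.snd O.ι C.subschemeι z ∈ Set.range i := by
        rw [← hWr, Set.mem_preimage, ← Scheme.Hom.comp_apply, ← pullback.condition, Scheme.Hom.comp_apply]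
        exact (pullback.fst O.ι C.subschemeι z).2
      obtain ⟨e, he⟩ := hz
      obtain ⟨w, hw, -⟩ := Scheme.exists_preimage_of_isPullback hm z e he.symm
      exact ⟨w, hw⟩⟩
    haveI : IsIso m := (isIso_iff_isOpenImmersion_and_surjective m).2 ⟨inferInstance, inferInstance⟩
    have : K.comap O.ι = C.comap O.ι := by
      show (pullback.fst O.ι K.subschemeι).ker = (pullback.fst O.ι C.subschemeι).ker
      rw [← Scheme.Hom.ker_comp_of_isIso m]
      congr 1
      simp [m]
    rw [this]
    exact BlowUpLib.isEffCartier_comap_of_flat O.ι hC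
  · let O : Y.Opens := ⟨(Set.range K.subschemeι)ᶜ, K.subschemeι.isClosedEmbedding.isClosed_range.isOpen_compl⟩
    refine ⟨O, O.ι, inferInstance, ⟨⟨y, hy⟩, rfl⟩, ?_⟩
    have : K.comap O.ι = ⊤ := by
      show (pullback.fst O.ι K.subschemeι).ker = ⊤
      rw [Scheme.Hom.ker_eq_top_iff_isEmpty]
      exact ⟨fun z => (pullback.fst O.ι K.subschemeι z).2 ⟨pullback.snd O.ι K.subschemeι z, by
        rw [← Scheme.Hom.comp_apply, ← pullback.condition]; rfl⟩⟩
    rw [this]
    exact isEffCartier_top _

end SplitDivLib
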